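import Cfsg.Agent.S0801
import Cfsg.Agent.Lib.Char.Zsigmondy.Main
import Cfsg.Agent.Lib.Qd.Elementary

/-!
# A transvection and a conjugate generate a group with a Singer element in `SL₂(q)`
-/

set_option autoImplicit false
set_option linter.style.haveILetI false
set_option linter.unusedSectionVars false

namespace CfsgLib.ModBound

open Matrix
open CfsgLib.Qd (up lo)

local notation "SL₂[" F "]" => Matrix.SpecialLinearGroup (Fin 2) F

variable {F : Type*} [Field F]

theorem val_mul (A B : SL₂[F]) : (A * B).1 = A.1 * B.1 := rfl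

theorem val_one : (1 : SL₂[F]).1 = 1 := rfl

theorem val_pow (A : SL₂[F]) (k : ℕ) : (A ^ k).1 = A.1 ^ k := by
  induction k with
  | zero => rfl
  | succ k ih => rw [pow_succ, pow_succ, val_mul, ih]

theorem sq_eq_trace (A : SL₂[F]) : A.1 * A.1 = (A.1 0 0 + A.1 1 1) • A.1 - 1 := by
  have hd := CfsgLib.Qd.det2 A
  ext i j
  fin_cases i <;> fin_cases j <;> simp [Matrix.mul_apply, Fin.sum_univ_two] <;>
    first | linear_combination -hd | linear_combination hd | ring

theorem pow_eq_coeff (A B : SL₂[F]) (h : A.1 0 0 + A.1 1 1 = B.1 0 0 + B.1 1 1) (k : ℕ) :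
    ∃ x y : F, (A ^ k).1 = x • A.1 + y • (1 : Matrix (Fin 2) (Fin 2) F) ∧
      (B ^ k).1 = x • B.1 + y • (1 : Matrix (Fin 2) (Fin 2) F) := by
  induction k with
  | zero => exact ⟨0, 1, by simp, by simp⟩
  | succ k ih =>
      obtain ⟨x, y, hA, hB⟩ := ih
      refine ⟨x * (A.1 0 0 + A.1 1 1) + y, -x, ?_, ?_⟩
      · rw [pow_succ, val_mul, hA, add_mul, smul_mul_assoc, smul_mul_assoc,
          one_mul, sq_eq_trace]
        module
      · rw [pow_succ, val_mul, hB, add_mul, smul_mul_assoc, smul_mul_assoc,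
          one_mul, sq_eq_trace, h]
        module

/-- non-scalar elements with equal trace have equal order -/
theorem orderOf_eq_of_trace (A B : SL₂[F]) (h : A.1 0 0 + A.1 1 1 = B.1 0 0 + B.1 1 1)
    (hA : ∀ z : F, A.1 ≠ z • 1) (hB : ∀ z : F, B.1 ≠ z • 1) : orderOf A = orderOf B := by
  have key : ∀ A B : SL₂[F], A.1 0 0 + A.1 1 1 = B.1 0 0 + B.1 1 1 → (∀ z : F, A.1 ≠ z • 1) →
      ∀ k, A ^ k = 1 → B ^ k = 1 := by
    intro A B h hA k hk
    obtain ⟨x, y, h1, h2⟩ := pow_eq_coeff A B h k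
    rw [hk, val_one] at h1
    have hx : x = 0 := by
      by_contra hx
      refine hA ((1 - y) / x) ?_
      have e : x • A.1 = (1 - y) • (1 : Matrix (Fin 2) (Fin 2) F) := by
        rw [sub_smul, one_smul]
        exact eq_sub_of_add_eq h1.symm
      rw [div_eq_inv_mul, mul_smul, ← e, inv_smul_smul₀ hx]
    rw [hx, zero_smul, zero_add] at h1 h2
    exact Subtype.ext (by rw [h2, ← h1, val_one])
  apply Nat.dvd_antisymm <;> rw [orderOf_dvd_iff_pow_eq_one]
  · exact key B A h.symm hB _ (pow_orderOf_eq_one B)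
  · exact key A B h hA _ (pow_orderOf_eq_one A)

/-- the element `w` -/
def wmat : SL₂[F] := ⟨!![0, -1; 1, 0], by simp [Matrix.det_fin_two]⟩

/-- the torus -/
def dmat (s : F) (hs : s ≠ 0) : SL₂[F] := ⟨!![s, 0; 0, s⁻¹], by simp [Matrix.det_fin_two, hs]⟩

theorem lo_eq_conj (c s : F) (hs : s ≠ 0) :
    (wmat * dmat s hs) * up c * (wmat * dmat s hs)⁻¹ = lo (-(c * s ^ 2)) := by
  rw [mul_inv_eq_iff_eq_mul]
  apply CfsgLib.Qd.ext2 <;>
    simp only [CfsgLib.Qd.mul00, CfsgLib.Qd.mul01, CfsgLib.Qd.mul10, CfsgLib.Qd.mul11] <;>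
    simp [wmat, dmat] <;> field_simp <;> ring_nf

theorem exists_conj_up {p : ℕ} [Fact p.Prime] [CharP F p] {A : SL₂[F]} (hA : A ^ p = 1) :
    ∃ (M : SL₂[F]) (c : F), A = M * up c * M⁻¹ := by
  obtain ⟨N, hN⟩ : ∃ N, N = A.1 - 1 := ⟨_, rfl⟩
  haveI : CharP (Matrix (Fin 2) (Fin 2) F) p := charP_of_injective_algebraMap
    (algebraMap F (Matrix (Fin 2) (Fin 2) F)).injective p
  have hnil : N ^ p = 0 := by
    rw [hN, sub_pow_char_of_commute p (Commute.one_right A.1), one_pow,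
      ← val_pow, hA, val_one, sub_self]
  have hdet : N.det = 0 := by
    have h1 := congrArg Matrix.det hnil
    rw [Matrix.det_pow, Matrix.det_zero] at h1
    exact pow_eq_zero_iff (Fact.out : p.Prime).ne_zero |>.1 h1
  obtain ⟨v, hv, hNv⟩ := Matrix.exists_mulVec_eq_zero_iff.2 hdet
  obtain ⟨M, hM⟩ : ∃ M : SL₂[F], M.1 *ᵥ ![1, 0] = v := by
    by_cases h0 : v 0 = 0
    · have h1 : v 1 ≠ 0 := fun h1 => hv (by ext i; fin_cases i <;> assumption)
      refine ⟨⟨!![0, -(v 1)⁻¹; v 1, 0], by simp [Matrix.det_fin_two, h1]⟩, ?_⟩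
      ext i; fin_cases i <;> simp [Matrix.mulVec, h0]
    · refine ⟨⟨!![v 0, 0; v 1, (v 0)⁻¹], by simp [Matrix.det_fin_two, h0]⟩, ?_⟩
      ext i; fin_cases i <;> simp [Matrix.mulVec]
  obtain ⟨B, hB⟩ : ∃ B, B = M⁻¹ * A * M := ⟨_, rfl⟩
  have hfix : B.1 *ᵥ ![1, 0] = ![1, 0] := by
    have h1 : A.1 *ᵥ v = v := by
      rw [hN, Matrix.sub_mulVec, Matrix.one_mulVec, sub_eq_zero] at hNv
      exact hNv
    rw [hB, val_mul, val_mul, ← Matrix.mulVec_mulVec, hM,
      ← Matrix.mulVec_mulVec, h1, ← hM, Matrix.mulVec_mulVec, ← val_mul,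
      inv_mul_cancel, val_one, Matrix.one_mulVec]
  have h00 := congrFun hfix 0
  have h10 := congrFun hfix 1
  simp [Matrix.mulVec, dotProduct, Fin.sum_univ_two] at h00 h10
  have hd := CfsgLib.Qd.det2 B
  rw [h00, h10] at hd
  refine ⟨M, B.1 0 1, ?_⟩
  rw [show up (B.1 0 1) = B from CfsgLib.Qd.ext2 (by simp [h00]) (by simp) (by simp [h10])
    (by simp; linear_combination -hd), hB]
  group

variable [Fintype F]

theorem card_SL (q : ℕ) (hq : q = Fintype.card F) : Nat.card SL₂[F] = (q ^ 2 - 1) * q := by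
  classical
  have hq1 : 1 < q := hq ▸ Fintype.one_lt_card
  have hGL : Nat.card (GL (Fin 2) F) = (q ^ 2 - 1) * (q ^ 2 - q) := by
    rw [Matrix.card_GL_field, Fin.prod_univ_two]; simp [hq]
  have hker : (Matrix.GeneralLinearGroup.det (n := Fin 2) (R := F)).ker =
      (Matrix.SpecialLinearGroup.toGL (n := Fin 2) (R := F)).range := by
    ext g
    refine ⟨fun h => ⟨⟨g.1, congrArg Units.val (MonoidHom.mem_ker.1 h)⟩, Units.ext rfl⟩, ?_⟩
    rintro ⟨A, rfl⟩
    exact MonoidHom.mem_ker.2 (Units.ext A.2)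
  have h1 : Nat.card SL₂[F] * (q - 1) = Nat.card (GL (Fin 2) F) := by
    rw [← (Matrix.GeneralLinearGroup.det (n := Fin 2) (R := F)).ker.card_mul_index,
      Subgroup.index_ker,
      MonoidHom.range_eq_top.2 Matrix.GeneralLinearGroup.det_surjective, Subgroup.card_top,
      Nat.card_units, Nat.card_eq_fintype_card (α := F), hker,
      Nat.card_congr (MonoidHom.ofInjective Matrix.SpecialLinearGroup.toGL_injective).toEquiv, hq]
  refine Nat.eq_of_mul_eq_mul_right (show 0 < q - 1 by omega) (h1.trans (hGL.trans ?_))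
  rw [mul_assoc, Nat.mul_sub_one, pow_two]

theorem singer_order_ne_two {p n r : ℕ} [Fact p.Prime] (hn : 1 ≤ n) (hr : r.Prime)
    (hd : r ∣ p ^ (2 * n) - 1) (hmin : ∀ k, 0 < k → k < 2 * n → ¬ r ∣ p ^ k - 1) :
    r ≠ p ∧ r ≠ 2 := by
  have h1 : r ≠ p := by
    intro e
    subst e
    have h2 : r ∣ r ^ (2 * n) := dvd_pow_self r (by omega)
    have h3 := Nat.dvd_sub h2 hd
    rw [Nat.sub_sub_self (Nat.one_le_pow _ _ hr.pos)] at h3
    exact hr.ne_one (Nat.dvd_one.1 h3)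
  refine ⟨h1, fun e => ?_⟩
  subst e
  refine hmin 1 one_pos (by omega) ?_
  rw [pow_one]
  have hodd : p % 2 = 1 := (Nat.Prime.eq_two_or_odd (Fact.out : p.Prime)).resolve_left (fun h => h1 h.symm)
  omega

end CfsgLib.ModBound
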