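import Mathlib
import Cfsg.Prelude.Def_LocalEven

/-!
# An element of prime power order `m` moves at least `p ^ ord_m(p)` cosets of its fixed points
-/

set_option autoImplicit false
set_option linter.style.haveILetI false
set_option linter.unusedSectionVars false

namespace CfsgLib.ModBound

open Subgroup

variable {G : Type*} [Group G] [Finite G] {p r : ℕ} [Fact p.Prime] [Fact r.Prime]

/-- the orbit count, for an element whose action on `V` has order `r ^ (e + 1)` -/
theorem pow_le_relIndex_of_action (V : Subgroup G) (hV : IsPGroup p V) {y : G}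
    (hy : y ∈ normalizer (V : Set G)) {e d : ℕ} (hm : y ^ r ^ (e + 1) ∈ centralizer (V : Set G))
    (hrp : r ≠ p)
    (hne : y ^ r ^ e ∉ centralizer (V : Set G))
    (hd : ∀ k, 0 < k → k < d → ¬ r ^ (e + 1) ∣ p ^ k - 1) :
    p ^ d ≤ (V ⊓ centralizer ({y ^ r ^ e} : Set G)).relIndex V := by
  classical
  obtain ⟨C, hC⟩ : ∃ C, C = V ⊓ centralizer ({y ^ r ^ e} : Set G) := ⟨_, rfl⟩
  rw [← hC]
  obtain ⟨i, hi⟩ := IsPGroup.iff_card.1 (hV.to_le (hC ▸ inf_le_left : C ≤ V))
  obtain ⟨j, hj⟩ := IsPGroup.iff_card.1 hV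
  have hCV : C ≤ V := hC ▸ inf_le_left
  have hidx : C.relIndex V * Nat.card C = Nat.card V := by
    rw [← relIndex_bot_left C, ← relIndex_bot_left V, mul_comm,
      relIndex_mul_relIndex _ _ _ bot_le hCV]
  have hij : i ≤ j := by
    rw [← Nat.pow_le_pow_iff_right (Fact.out : p.Prime).one_lt, ← hi, ← hj]
    exact card_le_of_le hCV
  have hrel : C.relIndex V = p ^ (j - i) := by
    refine Nat.eq_of_mul_eq_mul_right (Nat.pow_pos (Fact.out : p.Prime).pos : 0 < p ^ i) ?_
    rw [← pow_add, Nat.sub_add_cancel hij, ← hj, ← hi, hidx]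
  rw [hrel]
  refine Nat.pow_le_pow_right (Fact.out : p.Prime).pos ?_
  -- the orbits outside `C` have full size
  obtain ⟨σ, hσ⟩ : ∃ σ : Equiv.Perm V, ∀ v : V, (σ v : G) = y * v * y⁻¹ := by
    refine ⟨⟨fun v => ⟨y * v * y⁻¹, (mem_normalizer_iff.1 hy v).1 v.2⟩,
      fun v => ⟨y⁻¹ * v * y, (mem_normalizer_iff''.1 hy v).1 v.2⟩, fun v => Subtype.ext ?_,
      fun v => Subtype.ext ?_⟩, fun _ => rfl⟩ <;>
      simp [mul_assoc]
  have hpow : ∀ (k : ℕ) (v : V), ((σ ^ k) v : G) = y ^ k * v * (y ^ k)⁻¹ := by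
    intro k
    induction k with
    | zero => intro v; simp
    | succ k ih =>
        intro v
        rw [pow_succ', Equiv.Perm.mul_apply, hσ, ih, pow_succ' y k]
        group
  haveI := Fintype.ofFinite V
  haveI := Fintype.ofFinite C
  obtain ⟨S, hS⟩ : ∃ S : Finset V, S = Finset.univ.filter fun v : V => (v : G) ∉ C := ⟨_, rfl⟩
  have hmemS : ∀ v, v ∈ S ↔ (v : G) ∉ C := fun v => by simp [hS]
  have hScard : S.card = Nat.card V - Nat.card C := by
    rw [hS, Finset.filter_not, Finset.card_sdiff_of_subset (Finset.filter_subset _ _),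
      Finset.card_univ, ← Fintype.card_subtype]
    rw [Nat.card_eq_fintype_card, Nat.card_eq_fintype_card]
    congr 1
    exact Fintype.card_congr ⟨fun v => ⟨v.1.1, v.2⟩, fun c => ⟨⟨c.1, hCV c.2⟩, c.2⟩,
      fun _ => rfl, fun _ => rfl⟩
  have hcomm : ∀ v : V, v ∈ S ↔ (σ ^ r ^ e) v ≠ v := by
    intro v
    rw [hmemS, hC, mem_inf, not_and, mem_centralizer_singleton_iff]
    constructor
    · intro h e'
      refine h v.2 ?_
      have h1 := hpow (r ^ e) v
      rw [e'] at h1
      exact (eq_mul_inv_iff_mul_eq.1 h1)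
    · intro h _ h1
      exact h (Subtype.ext (by rw [hpow]; exact mul_inv_eq_iff_eq_mul.2 h1.symm))
  have hσm : σ ^ r ^ (e + 1) = 1 := Equiv.ext fun v => Subtype.ext (by
    rw [hpow, ← mem_centralizer_iff.1 hm v v.2, mul_inv_cancel_right]; rfl)
  -- all cycles on `S` have length `r ^ (e + 1)`
  have hdvd : r ^ (e + 1) ∣ S.card := by
    have hσS : S = (σ ^ r ^ e).support := by
      ext v; rw [hcomm, Equiv.Perm.mem_support]
    have hall : ∀ n ∈ σ.cycleType, n ∣ r ^ (e + 1) := fun n hn =>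
      (Equiv.Perm.dvd_of_mem_cycleType hn).trans (orderOf_dvd_of_pow_eq_one hσm)
    have hsplit : ∀ v ∈ S, (σ.cycleOf v).support.card = r ^ (e + 1) := by
      intro v hv
      have hne' : σ v ≠ v := fun e' => (hcomm v).1 hv (Equiv.Perm.pow_apply_eq_self_of_apply_eq_self e' _)
      have hcyc : (σ.cycleOf v).IsCycle := Equiv.Perm.isCycle_cycleOf _ hne'
      obtain ⟨c, hc, he'⟩ := (Nat.dvd_prime_pow (Fact.out : r.Prime)).1 (hall (σ.cycleOf v).support.card
        (by
          rw [Equiv.Perm.cycleType_def]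
          exact Multiset.mem_map.2 ⟨σ.cycleOf v,
            Equiv.Perm.cycleOf_mem_cycleFactorsFinset_iff.2 (Equiv.Perm.mem_support.2 hne'), rfl⟩))
      rw [he']
      rcases Nat.lt_or_ge c (e + 1) with hlt | hge
      · refine absurd ?_ ((hcomm v).1 hv)
        have h1 : (σ.cycleOf v ^ r ^ e) v = v := by
          have hpe : σ.cycleOf v ^ r ^ e = 1 := by
            refine orderOf_dvd_iff_pow_eq_one.1 ?_
            rw [hcyc.orderOf, he']
            exact pow_dvd_pow r (Nat.le_of_lt_succ hlt)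
          rw [hpe]; rfl
        rwa [Equiv.Perm.cycleOf_pow_apply_self] at h1
      · rw [le_antisymm hc hge]
    have hcl : ∀ v ∈ S, (σ.cycleOf v).support ⊆ S := by
      intro v hv u hu
      obtain ⟨hsame, -⟩ := Equiv.Perm.mem_support_cycleOf_iff.1 hu
      obtain ⟨k, hk⟩ := hsame.exists_pow_eq'
      rw [hcomm, ← hk.2]
      intro e'
      refine (hcomm v).1 hv ((σ ^ k).injective ?_)
      rw [← Equiv.Perm.mul_apply, ← pow_add, add_comm, pow_add, Equiv.Perm.mul_apply]
      exact e'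
    have hpart : S = S.biUnion fun v => (σ.cycleOf v).support := by
      ext u
      rw [Finset.mem_biUnion]
      refine ⟨fun hu => ⟨u, hu, ?_⟩, fun ⟨v, hv, hu⟩ => hcl v hv hu⟩
      rw [Equiv.Perm.mem_support_cycleOf_iff]
      refine ⟨Equiv.Perm.SameCycle.refl _ _, Equiv.Perm.mem_support.2 fun e' => ?_⟩
      exact (hcomm u).1 hu (Equiv.Perm.pow_apply_eq_self_of_apply_eq_self e' _)
    have himg : S = (S.image σ.cycleOf).biUnion fun c => c.support := by
      rw [Finset.image_biUnion]; exact hpart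
    rw [himg, Finset.card_biUnion]
    · refine Finset.dvd_sum fun c hc => ?_
      obtain ⟨v, hv, rfl⟩ := Finset.mem_image.1 hc
      rw [hsplit v hv]
    · intro c hc c' hc' hcc
      obtain ⟨v, hv, rfl⟩ := Finset.mem_image.1 hc
      obtain ⟨v', hv', rfl⟩ := Finset.mem_image.1 hc'
      refine Finset.disjoint_left.2 fun u hu hu' => hcc ?_
      rw [(Equiv.Perm.mem_support_cycleOf_iff.1 hu).1.cycleOf_eq,
        (Equiv.Perm.mem_support_cycleOf_iff.1 hu').1.cycleOf_eq]
  by_contra hlt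
  push Not at hlt
  have hpos : 0 < j - i := by
    by_contra h0
    push Not at h0
    apply hne
    refine mem_centralizer_iff.2 fun v hv => ?_
    have heq : C = V := eq_of_le_of_card_ge hCV (by
      rw [hi, hj]; exact Nat.pow_le_pow_right (Fact.out : p.Prime).pos (by omega))
    have h1 : v ∈ C := heq.symm ▸ hv
    rw [hC] at h1
    exact mem_centralizer_singleton_iff.1 (mem_inf.1 h1).2
  refine hd (j - i) hpos hlt ?_
  rw [hScard, hi, hj, show p ^ j = p ^ i * p ^ (j - i) by rw [← pow_add]; congr 1; omega,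
    ← Nat.mul_sub_one] at hdvd
  have hcop : Nat.Coprime (r ^ (e + 1)) (p ^ i) :=
    (((Nat.coprime_primes (Fact.out : r.Prime) (Fact.out : p.Prime)).2 hrp).pow_left _).pow_right _
  exact hcop.dvd_of_dvd_mul_left hdvd

/-- the orbit count -/
theorem pow_le_relIndex_of_element (V : Subgroup G) (hV : IsPGroup p V) {y : G}
    (hy : y ∈ normalizer (V : Set G)) {e d : ℕ} (hm : y ^ r ^ (e + 1) = 1) (hrp : r ≠ p)
    (hne : y ^ r ^ e ∉ centralizer (V : Set G))
    (hd : ∀ k, 0 < k → k < d → ¬ r ^ (e + 1) ∣ p ^ k - 1) :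
    p ^ d ≤ (V ⊓ centralizer ({y ^ r ^ e} : Set G)).relIndex V :=
  pow_le_relIndex_of_action V hV hy (hm ▸ one_mem _) hrp hne hd

end CfsgLib.ModBound
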