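import Cfsg.Agent.Lib.ModBound.Count

/-!
# The index of a fixed point group from generators of a group containing a Singer element
-/

set_option autoImplicit false
set_option linter.style.haveILetI false
set_option linter.unusedSectionVars false

namespace CfsgLib.ModBound

open Subgroup

variable {G : Type*} [Group G] [Finite G] {p : ℕ} [Fact p.Prime]

theorem relIndex_pos (A B : Subgroup G) : 0 < A.relIndex B :=
  Nat.pos_of_ne_zero (index_ne_zero_of_finite (H := A.subgroupOf B))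

/-- `p ^ d ≤ |V : C_V(a)| ^ (k + 1)` when `a` and `k` conjugates generate in the quotient a group with
an element of order `r ^ (e + 1)` -/
theorem bound_of_generators (V H : Subgroup G) (hV : IsPGroup p V)
    (hHV : H ≤ normalizer (V : Set G)) (hf : H ⊓ centralizer (V : Set G) = ⊥)
    {X : Type*} [Group X] (π : ↥H →* X) (a : ↥H) {k : ℕ} (b : Fin k → ↥H)
    (hb : ∀ i, ∃ (h : ↥H) (j : ℕ), j.Coprime (orderOf a) ∧ b i = h * a ^ j * h⁻¹)
    {r e d : ℕ} [Fact r.Prime] (hrp : r ≠ p)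
    (hd : ∀ l, 0 < l → l < d → ¬ r ^ (e + 1) ∣ p ^ l - 1)
    (hy : ∃ y ∈ closure (insert (π a) (Set.range fun i => π (b i))),
      orderOf y = r ^ (e + 1)) :
    p ^ d ≤ Nat.card V ∧ p ^ d ≤ (V ⊓ centralizer ({(a : G)} : Set G)).relIndex V ^ (k + 1) := by
  classical
  obtain ⟨T, hT⟩ : ∃ T : Subgroup ↥H, T = closure (insert a (Set.range b)) := ⟨_, rfl⟩
  obtain ⟨x, hx, hxo⟩ := hy
  have hx' : x ∈ T.map π := by
    rw [hT, MonoidHom.map_closure, Set.image_insert_eq, ← Set.range_comp]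
    exact hx
  obtain ⟨y, hy, rfl⟩ := hx'
  obtain ⟨c, l, hl, hcl⟩ := Nat.exists_eq_pow_mul_and_not_dvd (orderOf_pos y).ne' r
    (Fact.out : r.Prime).ne_one
  obtain ⟨y', hy'⟩ : ∃ y', y' = y ^ l := ⟨_, rfl⟩
  have hpow : (y' : ↥H) ^ r ^ c = 1 := by
    rw [hy', ← pow_mul, mul_comm, ← hcl, pow_orderOf_eq_one]
  have hord : orderOf (π y') = r ^ (e + 1) := by
    rw [hy', map_pow, Nat.Coprime.orderOf_pow, hxo]
    rw [hxo]
    exact ((Fact.out : r.Prime).coprime_iff_not_dvd.2 hl).pow_left _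
  have hle : e + 1 ≤ (orderOf y').factorization r := by
    have h1 : r ^ (e + 1) ∣ orderOf y' := hord ▸ orderOf_map_dvd π y'
    exact ((Fact.out : r.Prime).pow_dvd_iff_le_factorization (orderOf_pos y').ne').1 h1
  obtain ⟨c', hc', hoc⟩ := (Nat.dvd_prime_pow (Fact.out : r.Prime)).1 (orderOf_dvd_of_pow_eq_one hpow)
  have hec : e + 1 ≤ c' := by
    rw [hoc, Nat.Prime.factorization_pow (Fact.out : r.Prime)] at hle
    simpa using hle
  obtain ⟨e', rfl⟩ : ∃ e', c' = e' + 1 := ⟨c' - 1, by omega⟩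
  have hne : ((y' : ↥H) : G) ^ r ^ e' ∉ centralizer (V : Set G) := by
    intro hc
    have h1 : ((y' : ↥H) : G) ^ r ^ e' ∈ H ⊓ centralizer (V : Set G) := ⟨pow_mem y'.2 _, hc⟩
    rw [hf, mem_bot, ← SubgroupClass.coe_pow] at h1
    have h2 : orderOf y' ∣ r ^ e' := orderOf_dvd_of_pow_eq_one (Subtype.ext h1)
    rw [hoc, Nat.pow_dvd_pow_iff_le_right (Fact.out : r.Prime).one_lt] at h2
    omega
  have h1 : p ^ d ≤ (V ⊓ centralizer ({((y' : ↥H) : G) ^ r ^ e'} : Set G)).relIndex V := by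
    refine pow_le_relIndex_of_element V hV (hHV y'.2) ?_ hrp hne fun l' hl' hld hdiv => ?_
    · rw [← SubgroupClass.coe_pow, ← hoc, pow_orderOf_eq_one, OneMemClass.coe_one]
    · exact hd l' hl' hld ((pow_dvd_pow r hec).trans hdiv)
  -- the fixed points of the generators are fixed by `y'`
  obtain ⟨W, hW⟩ : ∃ W : Finset (Fin k) → Subgroup G, ∀ s, W s =
      V ⊓ centralizer ({(a : G)} ∪ (fun i => ((b i : ↥H) : G)) '' (s : Set (Fin k))) :=
    ⟨_, fun _ => rfl⟩
  have hsub : W Finset.univ ≤ V ⊓ centralizer ({((y' : ↥H) : G) ^ r ^ e'} : Set G) := by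
    rw [hW]
    refine le_inf inf_le_left fun v hv => mem_centralizer_singleton_iff.2 ?_
    have hcl : ∀ z ∈ T, Commute ((z : ↥H) : G) v := by
      intro z hz
      rw [hT] at hz
      induction hz using Subgroup.closure_induction with
      | mem z hz =>
          refine mem_centralizer_iff.1 (mem_inf.1 hv).2 _ ?_
          rcases hz with rfl | ⟨i, rfl⟩
          · exact Or.inl rfl
          · exact Or.inr ⟨i, Finset.mem_coe.2 (Finset.mem_univ i), rfl⟩
      | one => exact Commute.one_left v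
      | mul z w _ _ hz hw => exact hz.mul_left hw
      | inv z _ hz => exact hz.inv_left
    have h2 := hcl (y' ^ r ^ e') (pow_mem (hy' ▸ pow_mem hy l) _)
    rw [SubgroupClass.coe_pow] at h2
    exact h2.eq.symm
  have hconj : ∀ i, (V ⊓ centralizer ({((b i : ↥H) : G)} : Set G)).relIndex V ≤
      (V ⊓ centralizer ({(a : G)} : Set G)).relIndex V := by
    intro i
    obtain ⟨h, j, hj, hbi⟩ := hb i
    obtain ⟨φ, hφ⟩ : ∃ φ : G →* G, φ = (MulAut.conj (h : G)).toMonoidHom := ⟨_, rfl⟩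
    have hφi : Function.Injective φ := hφ ▸ (MulAut.conj (h : G)).injective
    have hmapV : V.map φ = V := by
      ext z
      rw [hφ]
      refine ⟨?_, fun hz => ⟨(h : G)⁻¹ * z * h, (mem_normalizer_iff''.1 (hHV h.2) z).1 hz, by simp [mul_assoc]⟩⟩
      rintro ⟨v, hv, rfl⟩
      exact (mem_normalizer_iff.1 (hHV h.2) v).1 hv
    have heq : (V ⊓ centralizer ({(a : G)} : Set G)).map φ ≤
        V ⊓ centralizer ({((b i : ↥H) : G)} : Set G) := by
      rintro _ ⟨v, hv, rfl⟩
      obtain ⟨hv1, hv2⟩ := mem_inf.1 hv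
      refine mem_inf.2 ⟨hmapV.le ⟨v, hv1, rfl⟩, mem_centralizer_singleton_iff.2 ?_⟩
      have hcj : Commute v ((a : G) ^ j) :=
        (show Commute v (a : G) from mem_centralizer_singleton_iff.1 hv2).pow_right j
      rw [hbi, hφ]
      show (h : G) * v * (h : G)⁻¹ * ((h : G) * (a : G) ^ j * (h : G)⁻¹) =
        (h : G) * (a : G) ^ j * (h : G)⁻¹ * ((h : G) * v * (h : G)⁻¹)
      calc _ = (h : G) * (v * (a : G) ^ j) * (h : G)⁻¹ := by group
        _ = (h : G) * ((a : G) ^ j * v) * (h : G)⁻¹ := by rw [hcj.eq]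
        _ = _ := by group
    calc (V ⊓ centralizer ({((b i : ↥H) : G)} : Set G)).relIndex V
        ≤ ((V ⊓ centralizer ({(a : G)} : Set G)).map φ).relIndex V :=
          Nat.le_of_dvd (relIndex_pos _ _) (relIndex_dvd_of_le_left V heq)
      _ = ((V ⊓ centralizer ({(a : G)} : Set G)).map φ).relIndex (V.map φ) := by rw [hmapV]
      _ = _ := relIndex_map_map_of_injective _ _ hφi
  have hbound : ∀ s : Finset (Fin k), (W s).relIndex V ≤
      (V ⊓ centralizer ({(a : G)} : Set G)).relIndex V ^ (s.card + 1) := by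
    intro s
    induction s using Finset.induction with
    | empty => simp [hW]
    | @insert i s hi ih =>
        have hle2 : W s ⊓ (V ⊓ centralizer ({((b i : ↥H) : G)} : Set G)) ≤ W (insert i s) := by
          intro v hv
          rw [hW] at hv ⊢
          obtain ⟨h1, h2⟩ := mem_inf.1 hv
          refine mem_inf.2 ⟨(mem_inf.1 h1).1, mem_centralizer_iff.2 ?_⟩
          rintro z (rfl | ⟨i', hi', rfl⟩)
          · exact mem_centralizer_iff.1 (mem_inf.1 h1).2 _ (Or.inl rfl)
          · rcases Finset.mem_insert.1 (Finset.mem_coe.1 hi') with rfl | hs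
            · exact mem_centralizer_iff.1 (mem_inf.1 h2).2 _ rfl
            · exact mem_centralizer_iff.1 (mem_inf.1 h1).2 _ (Or.inr ⟨i', hs, rfl⟩)
        rw [Finset.card_insert_of_notMem hi, pow_succ _ (s.card + 1)]
        exact (Nat.le_of_dvd (relIndex_pos _ _)
          (relIndex_dvd_of_le_left V hle2)).trans
          ((relIndex_inf_le (L := V)).trans (Nat.mul_le_mul ih (hconj i)))
  refine ⟨h1.trans (Nat.le_of_dvd Nat.card_pos (relIndex_dvd_card _ _)), ?_⟩
  calc p ^ d ≤ _ := h1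
    _ ≤ (W Finset.univ).relIndex V :=
      Nat.le_of_dvd (relIndex_pos _ _) (relIndex_dvd_of_le_left V hsub)
    _ ≤ _ := by simpa using hbound Finset.univ

end CfsgLib.ModBound
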