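import Cfsg.Agent.Lib.ModBound.Singer
import Cfsg.Agent.S2904
import Cfsg.Agent.Lib.Lie.PSL2Two

/-!
# Singer elements from two conjugate elements of order `p` in `SL₂(q)` and `PSL₂(q)`
-/

set_option autoImplicit false
set_option linter.style.haveILetI false
set_option linter.unusedSectionVars false

namespace CfsgLib.ModBound

open Matrix
open CfsgLib.Qd (up lo)

local notation "SL₂[" F "]" => Matrix.SpecialLinearGroup (Fin 2) F

variable {F : Type*} [Field F] [Fintype F] {p : ℕ} [Fact p.Prime] [CharP F p]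

theorem exists_order_nine (hp : p = 2) (hF : Fintype.card F = 2 ^ 3) :
    ∃ y : SL₂[F], orderOf y = 3 ^ (1 + 1) := by
  classical
  subst hp
  haveI : Fact (Nat.Prime 3) := ⟨Nat.prime_three⟩
  have h2 : (2 : F) = 0 := by exact_mod_cast CharP.cast_eq_zero F 2
  obtain ⟨g, hg⟩ : ∃ g : F, g ≠ 0 ∧ g ≠ 1 := by
    by_contra hno
    push Not at hno
    have hsub : (Finset.univ : Finset F) ⊆ {0, 1} := fun x _ => by
      rcases eq_or_ne x 0 with h | h <;> simp [h, hno x]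
    have := Finset.card_le_card hsub
    rw [Finset.card_univ, hF] at this
    exact absurd (this.trans Finset.card_le_two) (by norm_num)
  have h7 : g ^ 7 = 1 := by
    have := FiniteField.pow_card_sub_one_eq_one g hg.1
    rwa [hF] at this
  have hfac : (g - 1) * ((g ^ 3 + g + 1) * (g ^ 3 + g ^ 2 + 1)) = 0 := by
    linear_combination h7 + (g ^ 4 - g ^ 3) * h2
  obtain ⟨t, ht⟩ : ∃ t : F, t ^ 3 + t + 1 = 0 := by
    rcases mul_eq_zero.1 hfac with h | h
    · exact absurd (sub_eq_zero.1 h) hg.2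
    rcases mul_eq_zero.1 h with h | h
    · exact ⟨g, h⟩
    · refine ⟨g⁻¹, ?_⟩
      have h0 := hg.1
      field_simp
      linear_combination h
  obtain ⟨y, hy⟩ : ∃ y : SL₂[F], y = up 1 * lo (t - 2) := ⟨_, rfl⟩
  have htr : y.1 0 0 + y.1 1 1 = t := by
    rw [hy, CfsgLib.Qd.mul00, CfsgLib.Qd.mul11]; simp; ring
  have hy2 : y.1 * y.1 = t • y.1 - 1 := by rw [sq_eq_trace, htr]
  have hy3 : (y ^ 3).1 = (t ^ 2 - 1) • y.1 - t • (1 : Matrix (Fin 2) (Fin 2) F) := by
    rw [pow_succ, val_mul, pow_two, val_mul, hy2, sub_mul, smul_mul_assoc, one_mul, hy2]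
    module
  have hy01 : y.1 0 1 = 1 := by rw [hy, CfsgLib.Qd.mul01]; simp
  have hne : y ^ 3 ≠ 1 := by
    intro e
    have h1 := congrArg (fun M : SL₂[F] => M.1 0 1) e
    rw [hy3] at h1
    simp [hy01] at h1
    have e1 : t ^ 2 = 1 := by linear_combination h1
    have e2 : t = 1 := sub_eq_zero.1 (eq_zero_of_pow_eq_zero (n := 2) (by
      linear_combination e1 + (1 - t) * h2))
    rw [e2] at ht
    have : (1 : F) = 0 := by linear_combination ht - h2
    exact one_ne_zero this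
  have htr3 : (y ^ 3).1 0 0 + (y ^ 3).1 1 1 = 1 := by
    rw [hy3]
    simp only [Matrix.sub_apply, Matrix.smul_apply, smul_eq_mul, Matrix.one_apply_eq]
    linear_combination (t ^ 2 - 1) * htr + ht - (2 * t + 1) * h2
  have h9 : y ^ 9 = 1 := by
    obtain ⟨z, hz⟩ : ∃ z, z = y ^ 3 := ⟨_, rfl⟩
    rw [show y ^ 9 = z * z * z by rw [hz, ← pow_add, ← pow_add]]
    rw [← hz] at htr3
    refine Subtype.ext ?_
    rw [val_mul, val_mul, sq_eq_trace, htr3, one_smul, sub_mul, one_mul, sq_eq_trace, htr3, one_smul,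
      val_one]
    ext i j
    simp only [Matrix.sub_apply]
    linear_combination (-(1 : Matrix (Fin 2) (Fin 2) F) i j) * h2
  exact ⟨y, orderOf_eq_prime_pow (p := 3) (n := 1) (by simpa using hne) (by simpa using h9)⟩

/-- in `SL₂(q)` -/
theorem sl_singer {n : ℕ} (hF : Fintype.card F = p ^ n) (hn : (p = 2 ∧ 1 ≤ n) ∨ 2 ≤ n) :
    ∃ r e : ℕ, r.Prime ∧ r ≠ p ∧ r ≠ 2 ∧
      (∀ l, 0 < l → l < 2 * n → ¬ r ^ (e + 1) ∣ p ^ l - 1) ∧
      ∀ A : SL₂[F], A ^ p = 1 → A ≠ 1 →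
        ∃ h : SL₂[F], ∃ y ∈ Subgroup.closure {A, h * A * h⁻¹}, orderOf y = r ^ (e + 1) := by
  classical
  have hn1 : 1 ≤ n := by rcases hn with h | h <;> omega
  -- the transport to an arbitrary element of order `p`
  have transport : ∀ r e : ℕ,
      (∀ c : F, c ≠ 0 → ∃ h : SL₂[F], ∃ y ∈ Subgroup.closure {up c, h * up c * h⁻¹},
        orderOf y = r ^ (e + 1)) →
      ∀ A : SL₂[F], A ^ p = 1 → A ≠ 1 →
        ∃ h : SL₂[F], ∃ y ∈ Subgroup.closure {A, h * A * h⁻¹}, orderOf y = r ^ (e + 1) := by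
    intro r e H A hA hA1
    obtain ⟨M, c, rfl⟩ := exists_conj_up hA
    have hc : c ≠ 0 := by
      rintro rfl
      exact hA1 (by rw [CfsgLib.Qd.up_zero]; group)
    obtain ⟨h, y, hy, hyo⟩ := H c hc
    refine ⟨M * h * M⁻¹, M * y * M⁻¹, ?_, ?_⟩
    · have hm := Subgroup.mem_map_of_mem (MulAut.conj M).toMonoidHom hy
      rw [MonoidHom.map_closure, Set.image_pair] at hm
      simpa [MulAut.conj_apply, mul_assoc] using hm
    · rw [← hyo]
      exact orderOf_injective (MulAut.conj M).toMonoidHom (MulAut.conj M).injective y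
  by_cases hex : p = 2 ∧ n = 3
  · obtain ⟨hp, hn3⟩ := hex
    refine ⟨3, 1, Nat.prime_three, by omega, by omega, fun l hl hl6 => ?_,
      transport 3 1 fun c hc => exists_singer_up_two hp c hc (by omega) Nat.prime_three
        (exists_order_nine hp (by rw [hF, hp, hn3]))⟩
    subst hn3
    subst hp
    interval_cases l <;> norm_num
  · have h2n : ¬ (2 * n = 2 ∧ ∃ m : ℕ, p + 1 = 2 ^ m) := by
      rintro ⟨h, m, hm⟩
      rcases hn with ⟨hp, -⟩ | h'
      · rw [hp] at hm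
        rcases m with - | _ | m <;> simp [pow_succ] at hm; omega
      · omega
    obtain ⟨r, hr, hd, hmin⟩ := Cfsg.Agent.S2904.result p (2 * n) (Fact.out : p.Prime).one_lt (by omega)
      (fun h => hex ⟨h.1, by omega⟩) h2n
    haveI : Fact r.Prime := ⟨hr⟩
    obtain ⟨hrp, hr2⟩ := singer_order_ne_two (p := p) hn1 hr hd hmin
    refine ⟨r, 0, hr, hrp, hr2, fun l h1 h2 => by simpa using hmin l h1 h2, ?_⟩
    refine transport r 0 fun c hc => ?_
    rcases eq_or_ne p 2 with hp | hp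
    · refine exists_singer_up_two hp c hc hr2 hr ?_
      obtain ⟨y, hy⟩ := exists_prime_orderOf_dvd_card' (G := SL₂[F]) r (by
        rw [card_SL _ rfl, hF, ← pow_mul, mul_comm n 2]; exact hd.mul_right _)
      exact ⟨y, by rw [hy, pow_one]⟩
    · have h' : 2 ≤ n := hn.resolve_left fun h => hp h.1
      obtain ⟨h, y, hy, hyo⟩ := exists_singer_up_odd hp h' hF hd hmin c hc
      exact ⟨h, y, hy, by rw [hyo, pow_one]⟩

/-- in `PSL₂(q)` -/
theorem psl_singer {n : ℕ} (hF : Fintype.card F = p ^ n) (hn : (p = 2 ∧ 1 ≤ n) ∨ 2 ≤ n) :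
    ∃ r e : ℕ, r.Prime ∧ r ≠ p ∧ (∀ l, 0 < l → l < 2 * n → ¬ r ^ (e + 1) ∣ p ^ l - 1) ∧
      ∀ g : Matrix.ProjectiveSpecialLinearGroup (Fin 2) F, g ^ p = 1 → g ≠ 1 →
        ∃ h, ∃ y ∈ Subgroup.closure {g, h * g * h⁻¹}, orderOf y = r ^ (e + 1) := by
  classical
  obtain ⟨r, e, hr, hrp, hr2, hmin, H⟩ := sl_singer (F := F) (p := p) hF hn
  refine ⟨r, e, hr, hrp, hmin, fun g hg hg1 => ?_⟩
  obtain ⟨A, rfl⟩ := CfsgLib.PSL2Two.π_surjective g
  have hker : ∀ z : SL₂[F], CfsgLib.PSL2Two.π z = 1 → z ^ 2 = 1 := by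
    intro z hz
    refine Subtype.ext ?_
    rw [pow_two, val_mul, val_one]
    rcases CfsgLib.PSL2Two.π_eq_one_iff.1 hz with h | h <;> rw [h] <;> simp
  obtain ⟨B, hB, hBp⟩ : ∃ B : SL₂[F], CfsgLib.PSL2Two.π B = CfsgLib.PSL2Two.π A ∧ B ^ p = 1 := by
    rw [← map_pow] at hg
    rcases eq_or_ne p 2 with hp | hp
    · refine ⟨A, rfl, ?_⟩
      subst hp
      have h2 : (2 : F) = 0 := by exact_mod_cast CharP.cast_eq_zero F 2
      rcases CfsgLib.PSL2Two.π_eq_one_iff.1 hg with h | h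
      · exact Subtype.ext h
      · refine Subtype.ext (h.trans ?_)
        rw [val_one]
        ext i j
        simp only [Matrix.neg_apply]
        linear_combination (-(1 : Matrix (Fin 2) (Fin 2) F) i j) * h2
    · refine ⟨A ^ (p + 1), by rw [map_pow, pow_succ, ← map_pow, hg, one_mul], ?_⟩
      obtain ⟨m, hm⟩ := ((Fact.out : p.Prime).odd_of_ne_two hp).add_odd odd_one
      rw [← pow_mul, show (p + 1) * p = p * 2 * m by rw [hm]; ring, pow_mul, pow_mul, hker _ hg, one_pow]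
  obtain ⟨h, y, hy, hyo⟩ := H B hBp (fun e' => hg1 (by rw [← hB, e', map_one]))
  refine ⟨CfsgLib.PSL2Two.π h, CfsgLib.PSL2Two.π y, ?_, ?_⟩
  · have hm := Subgroup.mem_map_of_mem CfsgLib.PSL2Two.π hy
    rwa [MonoidHom.map_closure, Set.image_pair, map_mul, map_mul, map_inv, hB] at hm
  · refine Nat.dvd_antisymm (hyo ▸ orderOf_map_dvd _ y) ?_
    have h1 : CfsgLib.PSL2Two.π (y ^ orderOf (CfsgLib.PSL2Two.π y)) = 1 := by
      rw [map_pow, pow_orderOf_eq_one]
    have h3 : orderOf y ∣ orderOf (CfsgLib.PSL2Two.π y) * 2 :=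
      orderOf_dvd_of_pow_eq_one (by rw [pow_mul]; exact hker _ h1)
    rw [hyo] at h3
    exact (((Nat.coprime_primes hr Nat.prime_two).2 hr2).pow_left _).dvd_of_dvd_mul_right h3

end CfsgLib.ModBound
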