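import Cfsg.Agent.Lib.ModBound.Lift
import Cfsg.Agent.Lib.ModBound.PSL
import Cfsg.Agent.Lib.Coprime.Core

/-!
# Module bounds for groups over `SL₂(q)` and `PSL₂(q)`
-/

set_option autoImplicit false
set_option linter.style.haveILetI false
set_option linter.unusedSectionVars false

namespace CfsgLib.ModBound

open Subgroup

variable {G : Type*} [Group G] [Finite G] {p : ℕ} [Fact p.Prime]

/-- an element outside `C(V)` moves at least `p` points -/
theorem prime_le_relIndex (V : Subgroup G) (hV : IsPGroup p V) {a : G}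
    (ha : a ∉ centralizer (V : Set G)) :
    p ≤ (V ⊓ centralizer ({a} : Set G)).relIndex V := by
  obtain ⟨j, hj⟩ := IsPGroup.iff_card.1 hV
  obtain ⟨i, -, hi⟩ := (Nat.dvd_prime_pow (Fact.out : p.Prime)).1
    (hj ▸ relIndex_dvd_card (V ⊓ centralizer ({a} : Set G)) V)
  rw [hi]
  refine Nat.le_self_pow (fun h0 => ha ?_) p
  rw [h0, pow_zero, relIndex_eq_one] at hi
  exact mem_centralizer_iff.2 fun v hv => mem_centralizer_singleton_iff.1 (mem_inf.1 (hi hv)).2

/-- the bound, from the Singer property of the quotient -/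
theorem bound_of_singer (V H : Subgroup G) (hV : IsPGroup p V) (hHV : H ≤ normalizer (V : Set G))
    (hf : H ⊓ centralizer (V : Set G) = ⊥) {X : Type*} [Group X] (π : ↥H →* X)
    (hπ : Function.Surjective π) {n : ℕ}
    (hX : ∃ r e : ℕ, r.Prime ∧ r ≠ p ∧ (∀ l, 0 < l → l < 2 * n → ¬ r ^ (e + 1) ∣ p ^ l - 1) ∧
      ∀ g : X, g ^ p = 1 → g ≠ 1 → ∃ h, ∃ y ∈ closure {g, h * g * h⁻¹}, orderOf y = r ^ (e + 1))
    {a : ↥H} (ha : π a ≠ 1) (hap : ∃ i : ℕ, (π a) ^ p ^ i = 1) :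
    p ^ (2 * n) ≤ Nat.card V ∧ p ^ n ≤ (V ⊓ centralizer ({(a : G)} : Set G)).relIndex V := by
  classical
  obtain ⟨r, e, hr, hrp, hmin, H'⟩ := hX
  haveI : Fact r.Prime := ⟨hr⟩
  obtain ⟨i, hi⟩ : ∃ i, (π a) ^ p ^ i ≠ 1 ∧ (π a) ^ p ^ (i + 1) = 1 := by
    have hex := hap
    obtain ⟨i, hi⟩ := hex
    induction i with
    | zero => rw [pow_zero, pow_one] at hi; exact absurd hi ha
    | succ i ih =>
        by_cases h : (π a) ^ p ^ i = 1
        · exact ih h
        · exact ⟨i, h, hi⟩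
  obtain ⟨b, hb⟩ : ∃ b : ↥H, b = a ^ p ^ i := ⟨_, rfl⟩
  have hb1 : π b ≠ 1 := by rw [hb, map_pow]; exact hi.1
  have hbp : (π b) ^ p = 1 := by rw [hb, map_pow, ← pow_mul, ← pow_succ]; exact hi.2
  obtain ⟨hbar, y, hy, hyo⟩ := H' (π b) hbp hb1
  obtain ⟨h, rfl⟩ := hπ hbar
  have hset : ({π b, π h * π b * (π h)⁻¹} : Set X) =
      insert (π b) (Set.range fun _ : Fin 1 => π (h * b * h⁻¹)) := by
    rw [Set.range_const, map_mul, map_mul, map_inv]
  have hb2 := bound_of_generators (p := p) V H hV hHV hf π b (k := 1) (fun _ => h * b * h⁻¹)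
    (fun _ => ⟨h, 1, Nat.coprime_one_left _, by rw [pow_one]⟩) hrp hmin
    ⟨y, hset ▸ hy, hyo⟩
  refine ⟨hb2.1, ?_⟩
  have hle : (V ⊓ centralizer ({((b : ↥H) : G)} : Set G)).relIndex V ≤
      (V ⊓ centralizer ({(a : G)} : Set G)).relIndex V := by
    refine Nat.le_of_dvd (relIndex_pos _ _) (relIndex_dvd_of_le_left V ?_)
    refine inf_le_inf_left V fun v hv => mem_centralizer_singleton_iff.2 ?_
    rw [hb, SubgroupClass.coe_pow]
    exact ((show Commute v (a : G) from mem_centralizer_singleton_iff.1 hv).pow_right _).eq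
  refine le_trans ?_ hle
  have := hb2.2
  rw [show 1 + 1 = 2 from rfl, show p ^ (2 * n) = (p ^ n) ^ 2 by rw [← pow_mul, mul_comm]] at this
  exact (Nat.pow_le_pow_iff_left two_ne_zero).1 this

/-- the quotient by `O_{p'}` detects `p`-elements -/
theorem mk_ne_one_of_pElement {Q : Type*} [Group Q] [Finite Q] {a : Q} (ha : a ≠ 1)
    (hap : ∃ i, a ^ p ^ i = 1) [(Cfsg.pPrimeCore p Q).Normal] :
    QuotientGroup.mk' (Cfsg.pPrimeCore p Q) a ≠ 1 := by
  intro h
  rw [QuotientGroup.mk'_apply, QuotientGroup.eq_one_iff] at h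
  obtain ⟨i, hi⟩ := hap
  obtain ⟨k, -, hk⟩ := (Nat.dvd_prime_pow (Fact.out : p.Prime)).1 (orderOf_dvd_of_pow_eq_one hi)
  rcases Nat.eq_zero_or_pos k with rfl | hk0
  · exact ha (orderOf_eq_one_iff.1 (by simpa using hk))
  · exact CfsgLib.Coprime.pPrimeCore_not_dvd (Fact.out : p.Prime)
      ((dvd_pow_self p hk0.ne').trans (hk ▸ Subgroup.orderOf_dvd_natCard _ h))

end CfsgLib.ModBound
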