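import Cfsg.Agent.Lib.ModBound.SLTwo

/-!
# The Singer element in the group generated by two conjugates, for `PSL₂(q)`
-/

set_option autoImplicit false
set_option linter.style.haveILetI false
set_option linter.unusedSectionVars false

namespace CfsgLib.ModBound

open Matrix
open CfsgLib.Qd (up lo)

local notation "SL₂[" F "]" => Matrix.SpecialLinearGroup (Fin 2) F

variable {F : Type*} [Field F] [Fintype F]

theorem subfield_closure_neg_sq (g : Fˣ) (hg : ∀ x : Fˣ, x ∈ Subgroup.zpowers g) :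
    Subfield.closure ({-((g : F) ^ 2)} : Set F) = ⊤ := by
  classical
  obtain ⟨K, hK⟩ : ∃ K : Subfield F, K = Subfield.closure ({-((g : F) ^ 2)} : Set F) := ⟨_, rfl⟩
  rw [← hK]
  have hmem : (g : F) ^ 2 ∈ K := by
    have h := K.neg_mem (hK ▸ Subfield.subset_closure (Set.mem_singleton (-((g : F) ^ 2))))
    rwa [neg_neg] at h
  have hq : 1 < Fintype.card F := Fintype.one_lt_card
  have hord : orderOf g = Fintype.card F - 1 := by
    rw [← Nat.card_zpowers, (Subgroup.eq_top_iff' (Subgroup.zpowers g)).2 hg, Subgroup.card_top,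
      Nat.card_units, Nat.card_eq_fintype_card]
  haveI := Fintype.ofFinite K
  have hKcard : orderOf (g ^ 2) ≤ Fintype.card Kˣ := by
    obtain ⟨u, hu⟩ : ∃ u : Kˣ, ((u : K) : F) = (g : F) ^ 2 :=
      ⟨Units.mk0 ⟨(g : F) ^ 2, hmem⟩ (fun e => by simpa using congrArg Subtype.val e), rfl⟩
    have h1 : Units.map K.subtype.toMonoidHom u = g ^ 2 := Units.ext (by
      rw [Units.val_pow_eq_pow_val]; exact hu)
    rw [← h1]
    exact (Nat.le_of_dvd (orderOf_pos u) (orderOf_map_dvd _ u)).trans orderOf_le_card_univ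
  rw [Fintype.card_units] at hKcard
  have h2 : Fintype.card F - 1 ≤ 2 * orderOf (g ^ 2) := by
    have hd : orderOf g ∣ 2 * orderOf (g ^ 2) := by
      rw [orderOf_dvd_iff_pow_eq_one, pow_mul, pow_orderOf_eq_one]
    exact hord ▸ Nat.le_of_dvd (by have := orderOf_pos (g ^ 2); omega) hd
  have hpow : Fintype.card F = Fintype.card K ^ Module.finrank K F := Module.card_eq_pow_finrank
  have hKF : Fintype.card K ≤ Fintype.card F := Fintype.card_le_of_injective _ Subtype.val_injective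
  have hK1 : 1 < Fintype.card K := Fintype.one_lt_card
  have hfr : Module.finrank K F = 1 := by
    by_contra hne
    have hpos : 0 < Module.finrank K F := Module.finrank_pos
    have h3 : Fintype.card K ^ 2 ≤ Fintype.card F := by
      rw [hpow]; exact Nat.pow_le_pow_right (by omega) (by omega)
    obtain ⟨a, ha⟩ : ∃ a, Fintype.card K = a + 2 := ⟨Fintype.card K - 2, by omega⟩
    rw [ha] at hKcard h3
    have h5 : Fintype.card F ≤ 2 * a + 3 := by omega
    nlinarith
  rw [hfr, pow_one] at hpow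
  have hb : Function.Bijective (Subtype.val : K → F) :=
    (Fintype.bijective_iff_injective_and_card _).2 ⟨Subtype.val_injective, hpow.symm⟩
  refine eq_top_iff.2 fun x _ => ?_
  obtain ⟨y, rfl⟩ := hb.2 x
  exact y.2

/-- the image of `A` under conjugation by an antidiagonal matrix -/
def flipFun (c : F) (hc : c ≠ 0) (A : SL₂[F]) : SL₂[F] :=
  ⟨!![A.1 1 1, c * A.1 1 0; A.1 0 1 / c, A.1 0 0], by
    have := CfsgLib.Qd.det2 A
    simp [Matrix.det_fin_two]
    field_simp
    linear_combination this⟩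

theorem flipFun_coe (c : F) (hc : c ≠ 0) (A : SL₂[F]) :
    (flipFun c hc A).1 = !![A.1 1 1, c * A.1 1 0; A.1 0 1 / c, A.1 0 0] := rfl

/-- conjugation by an antidiagonal matrix -/
def flipScale (c : F) (hc : c ≠ 0) : SL₂[F] →* SL₂[F] :=
  MonoidHom.mk' (flipFun c hc) fun A B => by
    apply CfsgLib.Qd.ext2 <;>
      simp only [CfsgLib.Qd.mul00, CfsgLib.Qd.mul01, CfsgLib.Qd.mul10, CfsgLib.Qd.mul11, flipFun_coe] <;>
      simp <;> field_simp <;> ring_nf

theorem flipScale_coe (c : F) (hc : c ≠ 0) (A : SL₂[F]) :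
    (flipScale c hc A).1 = !![A.1 1 1, c * A.1 1 0; A.1 0 1 / c, A.1 0 0] := rfl

theorem flipScale_injective (c : F) (hc : c ≠ 0) : Function.Injective (flipScale c hc) := by
  intro A B h
  have h1 := congrArg (fun M : SL₂[F] => M.1 0 0) h
  have h2 := congrArg (fun M : SL₂[F] => M.1 0 1) h
  have h3 := congrArg (fun M : SL₂[F] => M.1 1 0) h
  have h4 := congrArg (fun M : SL₂[F] => M.1 1 1) h
  simp [flipScale_coe] at h1 h2 h3 h4
  refine CfsgLib.Qd.ext2 h4 ?_ ?_ h1
  · field_simp at h3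
    exact h3
  · simpa [hc] using h2

variable {p : ℕ} [Fact p.Prime] [CharP F p]

theorem exists_singer_up_odd (hp : p ≠ 2) {n r : ℕ} [Fact r.Prime] (hn : 2 ≤ n)
    (hF : Fintype.card F = p ^ n) (hd : r ∣ p ^ (2 * n) - 1)
    (hmin : ∀ k, 0 < k → k < 2 * n → ¬ r ∣ p ^ k - 1) (c : F) (hc : c ≠ 0) :
    ∃ h : SL₂[F], ∃ y ∈ Subgroup.closure {up c, h * up c * h⁻¹}, orderOf y = r := by
  classical
  obtain ⟨hrp, hr2⟩ := singer_order_ne_two (p := p) (show 1 ≤ n by omega) (Fact.out : r.Prime) hd hmin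
  obtain ⟨g, hg⟩ := IsCyclic.exists_generator (α := Fˣ)
  have h2 : (2 : F) ≠ 0 := by
    intro h
    have hd2 := (CharP.cast_eq_zero_iff F p 2).1 (by exact_mod_cast h)
    exact hp ((Nat.prime_dvd_prime_iff_eq (Fact.out : p.Prime) Nat.prime_two).1 hd2)
  obtain ⟨s, hs⟩ : ∃ s : F, s = (g : F) / c := ⟨_, rfl⟩
  have hs0 : s ≠ 0 := by rw [hs]; exact div_ne_zero g.ne_zero hc
  refine ⟨wmat * dmat s hs0, ?_⟩
  rw [lo_eq_conj c s hs0]
  obtain ⟨L, hL⟩ : ∃ L, L = Subgroup.closure {up c, lo (-(c * s ^ 2))} := ⟨_, rfl⟩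
  rw [← hL]
  obtain ⟨lam, hlam⟩ : ∃ lam, lam = -((g : F) ^ 2) := ⟨_, rfl⟩
  have himg : L.map (flipScale c hc) = Subgroup.closure {M : SL₂[F] |
      (M : Matrix (Fin 2) (Fin 2) F) = !![1, 0; 1, 1] ∨ (M : Matrix (Fin 2) (Fin 2) F) = !![1, lam; 0, 1]} := by
    rw [hL, MonoidHom.map_closure, Set.image_pair]
    congr 1
    have e1 : (flipScale c hc (up c)).1 = !![1, 0; 1, 1] := by
      simp [flipScale_coe, hc]
    have e2 : (flipScale c hc (lo (-(c * s ^ 2)))).1 = !![1, lam; 0, 1] := by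
      simp [flipScale_coe, hlam, hs]
      field_simp
    ext M
    simp only [Set.mem_insert_iff, Set.mem_singleton_iff, Set.mem_ofPred_eq]
    constructor
    · rintro (rfl | rfl)
      · exact Or.inl e1
      · exact Or.inr e2
    · rintro (h | h)
      · exact Or.inl (Subtype.ext (h.trans e1.symm))
      · exact Or.inr (Subtype.ext (h.trans e2.symm))
  have hcardL : r ∣ Nat.card L := by
    rw [Nat.card_congr (L.equivMapOfInjective _ (flipScale_injective c hc)).toEquiv, himg]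
    rcases Cfsg.Agent.S0801.result h2 lam (by rw [hlam]; exact neg_ne_zero.2 (pow_ne_zero 2 g.ne_zero))
      (hlam ▸ subfield_closure_neg_sq g hg) with ⟨htop, -⟩ | ⟨h9, -, h120⟩
    · rw [htop, Subgroup.card_top, card_SL _ rfl, hF, ← pow_mul, mul_comm n 2]
      exact Dvd.dvd.mul_right hd _
    · rw [h120]
      obtain rfl : p = 3 := by
        have : p ∣ 9 := h9 ▸ hF ▸ dvd_pow_self p (by omega)
        exact (Nat.prime_dvd_prime_iff_eq (Fact.out : p.Prime) Nat.prime_three).1
          ((Fact.out : p.Prime).dvd_of_dvd_pow (n := 2) this)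
      obtain rfl : n = 2 := Nat.pow_right_injective (le_refl 2 |>.trans (by norm_num)) (hF.symm.trans (h9.trans (by norm_num : (9 : ℕ) = 3 ^ 2)))
      have h80 : r ∣ 16 * 5 := by simpa using hd
      rcases (Fact.out : r.Prime).dvd_mul.1 h80 with h | h
      · exact absurd ((Nat.prime_dvd_prime_iff_eq (Fact.out : r.Prime) Nat.prime_two).1
          ((Fact.out : r.Prime).dvd_of_dvd_pow (n := 4) h)) hr2
      · exact h.trans (by norm_num)
  obtain ⟨y, hy⟩ := exists_prime_orderOf_dvd_card' r hcardL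
  exact ⟨y, y.2, by rw [Subgroup.orderOf_coe]; exact hy⟩

theorem exists_singer_up_two (hp : p = 2) {r e : ℕ} (c : F) (hc : c ≠ 0) (hr : r ≠ 2) (hrp : r.Prime)
    (hy : ∃ y : SL₂[F], orderOf y = r ^ (e + 1)) :
    ∃ h : SL₂[F], ∃ y ∈ Subgroup.closure {up c, h * up c * h⁻¹}, orderOf y = r ^ (e + 1) := by
  obtain ⟨y, hy⟩ := hy
  subst hp
  have h2 : (2 : F) = 0 := by exact_mod_cast CharP.cast_eq_zero F 2
  obtain ⟨t, ht⟩ : ∃ t, t = y.1 0 0 + y.1 1 1 := ⟨_, rfl⟩
  have hbig : 2 < orderOf y := by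
    rw [hy]
    exact lt_of_lt_of_le (lt_of_le_of_ne hrp.two_le (Ne.symm hr)) (Nat.le_self_pow (by omega) r)
  have ht0 : t ≠ 0 := by
    intro h0
    have h1 : y ^ 2 = 1 := Subtype.ext (by
      rw [pow_two, val_mul, sq_eq_trace, ← ht, h0, zero_smul, zero_sub, val_one]
      ext i j
      simp only [Matrix.neg_apply]
      linear_combination (-(1 : Matrix (Fin 2) (Fin 2) F) i j) * h2)
    have := Nat.le_of_dvd two_pos (orderOf_dvd_of_pow_eq_one h1)
    omega
  obtain ⟨s, hs⟩ : IsSquare (t / c / c) := FiniteField.isSquare_of_char_two (ringChar.eq F 2) _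
  have hs0 : s ≠ 0 := fun h => by
    rw [h, mul_zero, div_eq_zero_iff, div_eq_zero_iff] at hs
    tauto
  refine ⟨wmat * dmat s hs0, up c * ((wmat * dmat s hs0) * up c * (wmat * dmat s hs0)⁻¹),
    mul_mem (Subgroup.subset_closure (Or.inl rfl)) (Subgroup.subset_closure (Or.inr rfl)), ?_⟩
  rw [lo_eq_conj c s hs0, ← hy]
  refine orderOf_eq_of_trace _ _ ?_ ?_ ?_
  · rw [← ht, CfsgLib.Qd.mul00, CfsgLib.Qd.mul11]
    simp
    field_simp at hs
    linear_combination (-(c ^ 2) * s ^ 2 / 1) * h2 + h2 - hs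
  · intro z hz
    have := congrFun (congrFun hz 0) 1
    rw [show (up c * lo (-(c * s ^ 2))).1 0 1 = c by rw [CfsgLib.Qd.mul01]; simp] at this
    simp at this
    exact hc this
  · intro z hz
    have hd := CfsgLib.Qd.det2 y
    rw [hz] at hd
    simp at hd
    have hz1 : z = 1 := by
      have h1 : (z - 1) ^ 2 = 0 := by linear_combination hd + (1 - z) * h2
      exact sub_eq_zero.1 (eq_zero_of_pow_eq_zero h1)
    rw [hz1, one_smul] at hz
    rw [show y = 1 from Subtype.ext hz, orderOf_one] at hbig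
    omega

end CfsgLib.ModBound
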